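import Cfsg.Agent.Lib.CosetEnum.U62Pres.Top.Data

/-! Generated certificate. -/

set_option autoImplicit false
set_option maxRecDepth 20000

namespace Cfsg.Lib.CosetEnum.U62Pres.Top

theorem steps_8 : stepsOK relWords subWords tabF tabC 39155 1500 12000 = true := by decide +kernel

theorem steps_9 : stepsOK relWords subWords tabF tabC 39155 1500 13500 = true := by decide +kernel

theorem steps_10 : stepsOK relWords subWords tabF tabC 39155 1500 15000 = true := by decide +kernel

theorem steps_11 : stepsOK relWords subWords tabF tabC 39155 1500 16500 = true := by decide +kernel

theorem steps_12 : stepsOK relWords subWords tabF tabC 39155 1500 18000 = true := by decide +kernel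

theorem steps_13 : stepsOK relWords subWords tabF tabC 39155 1500 19500 = true := by decide +kernel

theorem steps_14 : stepsOK relWords subWords tabF tabC 39155 1500 21000 = true := by decide +kernel

theorem steps_15 : stepsOK relWords subWords tabF tabC 39155 1500 22500 = true := by decide +kernel

end Cfsg.Lib.CosetEnum.U62Pres.Top
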