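import Cfsg.Agent.Lib.CosetEnum.U62Pres.Top.Data

/-! Generated certificate. -/

set_option autoImplicit false
set_option maxRecDepth 20000

namespace Cfsg.Lib.CosetEnum.U62Pres.Top

theorem steps_48 : stepsOK relWords subWords tabF tabC 39155 1500 72000 = true := by decide +kernel

theorem steps_49 : stepsOK relWords subWords tabF tabC 39155 1500 73500 = true := by decide +kernel

theorem steps_50 : stepsOK relWords subWords tabF tabC 39155 1500 75000 = true := by decide +kernel

theorem steps_51 : stepsOK relWords subWords tabF tabC 39155 1500 76500 = true := by decide +kernel

theorem steps_52 : stepsOK relWords subWords tabF tabC 39155 1500 78000 = true := by decide +kernel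

theorem steps_53 : stepsOK relWords subWords tabF tabC 39155 1500 79500 = true := by decide +kernel

theorem steps_54 : stepsOK relWords subWords tabF tabC 39155 1500 81000 = true := by decide +kernel

theorem steps_55 : stepsOK relWords subWords tabF tabC 39155 1500 82500 = true := by decide +kernel

end Cfsg.Lib.CosetEnum.U62Pres.Top
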