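import Cfsg.Agent.Lib.CosetEnum.U62Pres.Top.Data

/-! Generated certificate. -/

set_option autoImplicit false
set_option maxRecDepth 20000

namespace Cfsg.Lib.CosetEnum.U62Pres.Top

theorem steps_56 : stepsOK relWords subWords tabF tabC 39155 1500 84000 = true := by decide +kernel

theorem steps_57 : stepsOK relWords subWords tabF tabC 39155 1500 85500 = true := by decide +kernel

theorem steps_58 : stepsOK relWords subWords tabF tabC 39155 1500 87000 = true := by decide +kernel

theorem steps_59 : stepsOK relWords subWords tabF tabC 39155 1500 88500 = true := by decide +kernel

theorem steps_60 : stepsOK relWords subWords tabF tabC 39155 1500 90000 = true := by decide +kernel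

theorem steps_61 : stepsOK relWords subWords tabF tabC 39155 1500 91500 = true := by decide +kernel

theorem steps_62 : stepsOK relWords subWords tabF tabC 39155 1500 93000 = true := by decide +kernel

theorem steps_63 : stepsOK relWords subWords tabF tabC 39155 1500 94500 = true := by decide +kernel

end Cfsg.Lib.CosetEnum.U62Pres.Top
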