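import Cfsg.Agent.Lib.CosetEnum.U62Pres.Top.DefsPart0
import Cfsg.Agent.Lib.CosetEnum.U62Pres.Top.StepsPart0
import Cfsg.Agent.Lib.CosetEnum.U62Pres.Top.StepsPart1
import Cfsg.Agent.Lib.CosetEnum.U62Pres.Top.StepsPart2
import Cfsg.Agent.Lib.CosetEnum.U62Pres.Top.StepsPart3
import Cfsg.Agent.Lib.CosetEnum.U62Pres.Top.StepsPart4
import Cfsg.Agent.Lib.CosetEnum.U62Pres.Top.StepsPart5
import Cfsg.Agent.Lib.CosetEnum.U62Pres.Top.StepsPart6
import Cfsg.Agent.Lib.CosetEnum.U62Pres.Top.StepsPart7
import Cfsg.Agent.Lib.CosetEnum.U62Pres.Top.StepsPart8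
import Cfsg.Agent.Lib.CosetEnum.U62Pres.Top.ClosedPart0

/-! Generated certificate. -/

set_option autoImplicit false
set_option maxRecDepth 20000

namespace Cfsg.Lib.CosetEnum.U62Pres.Top

theorem step_valid {R0 : List (List Nat)} (h : shiftsOK R0 relWords = true) : step.Valid R0 where
  pos := by decide +kernel
  shifts := h
  defs := (defsOK_append (a := 18000) (b := 21155) (defsOK_append (a := 6000) (b := 12000) defs_0 (defsOK_append (a := 6000) (b := 6000) defs_1 defs_2)) (defsOK_append (a := 12000) (b := 9155) (defsOK_append (a := 6000) (b := 6000) defs_3 defs_4) (defsOK_append (a := 6000) (b := 3155) defs_5 defs_6)))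
  steps := (stepsOK_append (m := 51000) (n := 49749) (stepsOK_append (m := 25500) (n := 25500) (stepsOK_append (m := 12000) (n := 13500) (stepsOK_append (m := 6000) (n := 6000) (stepsOK_append (m := 3000) (n := 3000) (stepsOK_append (m := 1500) (n := 1500) steps_0 steps_1) (stepsOK_append (m := 1500) (n := 1500) steps_2 steps_3)) (stepsOK_append (m := 3000) (n := 3000) (stepsOK_append (m := 1500) (n := 1500) steps_4 steps_5) (stepsOK_append (m := 1500) (n := 1500) steps_6 steps_7))) (stepsOK_append (m := 6000) (n := 7500) (stepsOK_append (m := 3000) (n := 3000) (stepsOK_append (m := 1500) (n := 1500) steps_8 steps_9) (stepsOK_append (m := 1500) (n := 1500) steps_10 steps_11)) (stepsOK_append (m := 3000) (n := 4500) (stepsOK_append (m := 1500) (n := 1500) steps_12 steps_13) (stepsOK_append (m := 1500) (n := 3000) steps_14 (stepsOK_append (m := 1500) (n := 1500) steps_15 steps_16))))) (stepsOK_append (m := 12000) (n := 13500) (stepsOK_append (m := 6000) (n := 6000) (stepsOK_append (m := 3000) (n := 3000) (stepsOK_append (m := 1500) (n := 1500) steps_17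 steps_18) (stepsOK_append (m := 1500) (n := 1500) steps_19 steps_20)) (stepsOK_append (m := 3000) (n := 3000) (stepsOK_append (m := 1500) (n := 1500) steps_21 steps_22) (stepsOK_append (m := 1500) (n := 1500) steps_23 steps_24))) (stepsOK_append (m := 6000) (n := 7500) (stepsOK_append (m := 3000) (n := 3000) (stepsOK_append (m := 1500) (n := 1500) steps_25 steps_26) (stepsOK_append (m := 1500) (n := 1500) steps_27 steps_28)) (stepsOK_append (m := 3000) (n := 4500) (stepsOK_append (m := 1500) (n := 1500) steps_29 steps_30) (stepsOK_append (m := 1500) (n := 3000) steps_31 (stepsOK_append (m := 1500) (n := 1500) steps_32 steps_33)))))) (stepsOK_append (m := 25500) (n := 24249) (stepsOK_append (m := 12000) (n := 13500) (stepsOK_append (m := 6000) (n := 6000) (stepsOK_append (m := 3000) (n := 3000) (stepsOK_append (m := 1500) (n := 1500) steps_34 steps_35) (stepsOK_append (m := 1500) (n := 1500) steps_36 steps_37)) (stepsOK_append (m := 3000) (n := 3000) (stepsOK_append (m := 1500) (n := 1500) steps_38 steps_39) (stepsOK_append (m := 1500) (n := 1500) steps_40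 steps_41))) (stepsOK_append (m := 6000) (n := 7500) (stepsOK_append (m := 3000) (n := 3000) (stepsOK_append (m := 1500) (n := 1500) steps_42 steps_43) (stepsOK_append (m := 1500) (n := 1500) steps_44 steps_45)) (stepsOK_append (m := 3000) (n := 4500) (stepsOK_append (m := 1500) (n := 1500) steps_46 steps_47) (stepsOK_append (m := 1500) (n := 3000) steps_48 (stepsOK_append (m := 1500) (n := 1500) steps_49 steps_50))))) (stepsOK_append (m := 12000) (n := 12249) (stepsOK_append (m := 6000) (n := 6000) (stepsOK_append (m := 3000) (n := 3000) (stepsOK_append (m := 1500) (n := 1500) steps_51 steps_52) (stepsOK_append (m := 1500) (n := 1500) steps_53 steps_54)) (stepsOK_append (m := 3000) (n := 3000) (stepsOK_append (m := 1500) (n := 1500) steps_55 steps_56) (stepsOK_append (m := 1500) (n := 1500) steps_57 steps_58))) (stepsOK_append (m := 6000) (n := 6249) (stepsOK_append (m := 3000) (n := 3000) (stepsOK_append (m := 1500) (n := 1500) steps_59 steps_60) (stepsOK_append (m := 1500) (n := 1500) steps_61 steps_62)) (stepsOK_append (m := 3000) (n := 3249) (stepsOK_append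 (m := 1500) (n := 1500) steps_63 steps_64) (stepsOK_append (m := 1500) (n := 1749) steps_65 (stepsOK_append (m := 1500) (n := 249) steps_66 steps_67)))))))
  closed := closed_0

end Cfsg.Lib.CosetEnum.U62Pres.Top
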